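import Cfsg.Agent.H315.HT.PairRow
import Cfsg.Agent.H740.Eight.TwFTwo
import Cfsg.Agent.H726.HT.Ab
import Cfsg.Agent.S1068

/-!
# S4933 : the row `²F₄(q)`, cross characteristic, nonabelian Sylow subgroups (helper315)

`row_three` : `Row 3 ²F₄(q)`; `f4t` : the field `f4t` of `OddRows`.
-/

set_option autoImplicit false

open Cfsg Cfsg.Lie

namespace Cfsg.Agent.H315.HT

open Cfsg.Agent.LieRecognition.FeitHigmanGroup Cfsg.Agent.H315.CY Cfsg.Agent.H316.HT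

/-- the degree -/
theorem deg_num (a : ℕ) : (kap (((2 * 4 ^ a : ℕ) ^ 2 : ℕ) : ℝ) ((2 * 4 ^ a : ℕ) : ℝ))⁻¹ *
    (((1 + (2 * 4 ^ a) ^ 2) * (1 + 2 * 4 ^ a) * (1 + (2 * 4 ^ a) ^ 2 * (2 * 4 ^ a)) *
      (1 + ((2 * 4 ^ a) ^ 2) ^ 2 * (2 * 4 ^ a) ^ 2) : ℕ) : ℝ) =
    ((2 * 4 ^ a * ((2 * 4 ^ a) ^ 2 + 1 - 2 * 4 ^ a) * ((2 * 4 ^ a) ^ 4 + 1 - (2 * 4 ^ a) ^ 2) : ℕ) : ℝ) := by
  set q : ℕ := 2 * 4 ^ a with hq
  have hq1 : 1 ≤ q := Nat.pos_of_ne_zero (by positivity)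
  have h1 : q ≤ q ^ 2 + 1 := by nlinarith
  have h2 : q ^ 2 ≤ q ^ 4 + 1 := by nlinarith [sq_nonneg (q ^ 2)]
  have hq0 : (0 : ℝ) < q := by exact_mod_cast hq1
  push_cast [Nat.cast_sub h1, Nat.cast_sub h2]
  unfold kap
  field_simp
  ring

theorem deg_val (a : ℕ) : (2 * 4 ^ a * ((2 * 4 ^ a) ^ 2 + 1 - 2 * 4 ^ a) *
    ((2 * 4 ^ a) ^ 4 + 1 - (2 * 4 ^ a) ^ 2)).factorization 3 = 1 := by
  set q : ℕ := 2 * 4 ^ a with hq
  have hmod : q % 3 = 2 := by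
    rw [hq, Nat.mul_mod, Nat.pow_mod]
    norm_num
  have hq1 : 1 ≤ q := Nat.pos_of_ne_zero (by positivity)
  obtain ⟨k, hk⟩ : ∃ k, q = 3 * k + 2 := ⟨q / 3, by omega⟩
  have h1 : q ^ 2 + 1 - q = 3 * (3 * (k ^ 2 + k) + 1) := by
    have : q ^ 2 + 1 = 3 * (3 * (k ^ 2 + k) + 1) + q := by rw [hk]; ring
    omega
  have h2 : q ^ 4 + 1 - q ^ 2 = 3 * (27 * k ^ 4 + 72 * k ^ 3 + 69 * k ^ 2 + 28 * k + 4) + 1 := by
    have : q ^ 4 + 1 = 3 * (27 * k ^ 4 + 72 * k ^ 3 + 69 * k ^ 2 + 28 * k + 4) + 1 + q ^ 2 := by rw [hk]; ring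
    omega
  rw [h1, h2, show q * (3 * (3 * (k ^ 2 + k) + 1)) * (3 * (27 * k ^ 4 + 72 * k ^ 3 + 69 * k ^ 2 + 28 * k + 4) + 1) =
    3 ^ 1 * (q * (3 * (k ^ 2 + k) + 1) * (3 * (27 * k ^ 4 + 72 * k ^ 3 + 69 * k ^ 2 + 28 * k + 4) + 1)) by ring]
  have h3 : ¬ 3 ∣ q * (3 * (k ^ 2 + k) + 1) * (3 * (27 * k ^ 4 + 72 * k ^ 3 + 69 * k ^ 2 + 28 * k + 4) + 1) := by
    rw [Nat.prime_three.dvd_mul, Nat.prime_three.dvd_mul]
    omega
  rw [Nat.factorization_mul (by norm_num) (by positivity)]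
  rw [Finsupp.add_apply, Nat.factorization_eq_zero_of_not_dvd h3, Nat.factorization_pow, Finsupp.smul_apply,
    Nat.Prime.factorization_self Nat.prime_three]
  rfl

/-- **the row `²F₄(q)`, `p = 3`** (`q = 2` included) -/
theorem row_three {K : Type} [Field K] [Fintype K] {m : ℕ} (hK : Fintype.card K = 2 ^ (2 * m + 1)) :
    Row 3 ↥(twistedF4 K (2 ^ m)) := by
  have h2 : Fact (Nat.Prime 2) := ⟨Nat.prime_two⟩
  have h3 : Fact (Nat.Prime 3) := ⟨Nat.prime_three⟩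
  obtain ⟨P, U, t, s, V, V', hsp, hS, h16, hV, hV', hcV, hcV', hcU, hcT⟩ :=
    Cfsg.Agent.H740.Eight.TwFTwo.exists_pair (K := K) (m := m) hK
  have hG := Cfsg.Agent.S1068.result hK
  have hfin : Finite ↥(twistedF4 K (2 ^ m)) := inferInstance
  have hs : s ∈ P.S := by rw [hS]; exact Or.inr rfl
  have ht : t ∈ P.S := by rw [hS]; exact Or.inl rfl
  have hqt := Cfsg.Agent.H740.Eight.HeckeDeg.q_eq hsp ht hV
  have hqs := Cfsg.Agent.H740.Eight.HeckeDeg.q_eq hsp hs hV'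
  have hcB := Cfsg.Agent.H740.Eight.TwFTwo.card_B hsp
  have hc1 := Cfsg.Agent.H978.BR.card_par hsp ht hV
  have hc2 := Cfsg.Agent.H978.BR.card_par hsp hs hV'
  have e0 : 2 ^ (2 * m + 1) = 2 * 4 ^ m := by rw [pow_succ, pow_mul]; norm_num; ring
  rw [e0] at hcV hcV' hcU hcT hG
  rw [hcV] at hqt hc1
  rw [hcV'] at hqs hc2
  rw [hcU, hcT] at hcB
  set q : ℕ := 2 * 4 ^ m with hq
  have hq2 : 2 ≤ q := by
    have : 0 < 4 ^ m := by positivity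
    omega
  have hBpos : 0 < Nat.card P.B := Nat.card_pos
  have hne : Nat.card (P.parabolic {t}) ≠ Nat.card (P.parabolic {s}) := by
    rw [hc1, hc2]
    intro h
    have h4 := Nat.eq_of_mul_eq_mul_left hBpos h
    nlinarith
  have hst : s ≠ t := by
    rintro rfl
    exact hne rfl
  have hTP : TPall P := tp_two hsp hS hne
  have hidx : Nat.card (↥(twistedF4 K (2 ^ m)) ⧸ P.B) =
      (1 + q ^ 2) * (1 + q) * (1 + q ^ 2 * q) * (1 + (q ^ 2) ^ 2 * q ^ 2) := by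
    have h5 := P.B.card_mul_index
    rw [hG, hcB, P.B.index_eq_card] at h5
    obtain ⟨r, hr⟩ : ∃ r, q = r + 1 := ⟨q - 1, by omega⟩
    have hr1 : 0 < r := by omega
    have e1 : q - 1 = r := by omega
    have e2 : q ^ 4 - 1 = r * ((q + 1) * (q ^ 2 + 1)) := by
      have : q ^ 4 = r * ((q + 1) * (q ^ 2 + 1)) + 1 := by rw [hr]; ring
      omega
    rw [e1, e2] at h5
    have h6 : 0 < q ^ 12 * r ^ 2 := by positivity
    refine Nat.eq_of_mul_eq_mul_left h6 ?_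
    rw [h5]
    ring
  refine row_of_pair (P := P) hTP (s := s) (t := t) (by rw [hS]; exact Set.pair_comm _ _) hst h16 ?_ ?_
    (d := q * (q ^ 2 + 1 - q) * (q ^ 4 + 1 - q ^ 2)) ?_ (deg_val m)
  · rw [hidx, hqs, hqt]
  · rw [hqt, hq, Nat.dvd_iff_mod_eq_zero, Nat.add_mod, Nat.mul_mod, Nat.pow_mod]
    norm_num
  · rw [hidx, hqs, hqt]
    exact deg_num m

/-- **the field `f4t` of `OddRows`** -/
theorem f4t (p : ℕ) [hp : Fact p.Prime] (hp2 : p ≠ 2) : H892.HT.SpR Row p fun K => Lie.Iso2F4 K ∧ ¬ H892.HT.Ab p K := by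
  intro G _ _ _ _ hI
  have h3 := H726.HT.iso2F4_cases hp2 hI
  subst h3
  obtain ⟨⟨K, _, _, m, -, hK, ⟨e⟩⟩, -⟩ := hI
  intro A _ _ N _ ⟨f⟩ hc M hM P a ha hcd
  exact row_three hK A N ⟨f.trans e⟩ hc M hM P a ha hcd

end Cfsg.Agent.H315.HT
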