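import Cfsg.Agent.H315.HT.Test
import Cfsg.Agent.H740.Eight.HeckeDeg

/-!
# S4933: the mixed linear character of the Hecke algebra of the dihedral group of order 16 (helper315)

`A² = (a-1) A + a`, `B² = (b-1) B + b`, `(AB)⁴ = (BA)⁴`; `zz A B c = ∑_w c ^ (number of B in w) T_w`; for `b c = -1`:
`A z = a z`, `B z = - z`, `z z = κ z`.
-/

set_option autoImplicit false
set_option linter.unusedSectionVars false

namespace Cfsg.Agent.H315.HT

open Cfsg.Agent.LieRecognition.FeitHigmanGroup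

section alg

variable {M : Type*} [Ring M] [Algebra ℝ M] {A B : M} {a b c : ℝ}

/-- the sixteen words -/
def words (A B : M) : Fin 16 → M :=
  ![1, alt 1 A B, alt 1 B A, alt 2 A B, alt 2 B A, alt 3 A B, alt 3 B A, alt 4 A B, alt 4 B A, alt 5 A B, alt 5 B A,
    alt 6 A B, alt 6 B A, alt 7 A B, alt 7 B A, alt 8 A B]

/-- the number of letters `B` -/
def ex : Fin 16 → ℕ := ![0, 0, 1, 1, 1, 1, 2, 2, 2, 2, 3, 3, 3, 3, 4, 4]

/-- the weighted sum -/
noncomputable def zz (A B : M) (c : ℝ) : M := ∑ i, c ^ ex i • words A B i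

theorem zz_eq (A B : M) (c : ℝ) : zz A B c = 1 + alt 1 A B + c • alt 1 B A + c • alt 2 A B + c • alt 2 B A +
    c • alt 3 A B + c ^ 2 • alt 3 B A + c ^ 2 • alt 4 A B + c ^ 2 • alt 4 B A + c ^ 2 • alt 5 A B + c ^ 3 • alt 5 B A +
    c ^ 3 • alt 6 A B + c ^ 3 • alt 6 B A + c ^ 3 • alt 7 A B + c ^ 4 • alt 7 B A + c ^ 4 • alt 8 A B := by
  unfold zz
  simp only [Fin.sum_univ_succ, Fin.sum_univ_zero, words, ex, Matrix.cons_val_zero, Matrix.cons_val_succ, pow_zero,
    pow_one, one_smul, add_zero]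
  abel

theorem mul_alt (hA : A * A = (a - 1) • A + a • (1 : M)) (k : ℕ) :
    A * alt (k + 1) A B = (a - 1) • alt (k + 1) A B + a • alt k B A := by
  rw [alt_succ, ← mul_assoc, hA, add_mul, smul_mul_assoc, smul_mul_assoc, one_mul]

theorem A_zz (hA : A * A = (a - 1) • A + a • (1 : M)) :
    A * zz A B c = a • zz A B c := by
  have h := fun k => mul_alt (B := B) hA k
  have h8 : A * alt 8 A B = (a - 1) • alt 8 A B + a • alt 7 B A := h 7
  have h7 : A * alt 7 A B = (a - 1) • alt 7 A B + a • alt 6 B A := h 6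
  have h6 : A * alt 6 A B = (a - 1) • alt 6 A B + a • alt 5 B A := h 5
  have h5 : A * alt 5 A B = (a - 1) • alt 5 A B + a • alt 4 B A := h 4
  have h4 : A * alt 4 A B = (a - 1) • alt 4 A B + a • alt 3 B A := h 3
  have h3 : A * alt 3 A B = (a - 1) • alt 3 A B + a • alt 2 B A := h 2
  have h2 : A * alt 2 A B = (a - 1) • alt 2 A B + a • alt 1 B A := h 1
  have h1 : A * alt 1 A B = (a - 1) • alt 1 A B + a • (1 : M) := h 0
  have g : ∀ k, A * alt k B A = alt (k + 1) A B := fun k => rfl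
  have g0 : A = alt 1 A B := (alt_one A B).symm
  rw [zz_eq]
  simp only [mul_add, mul_smul_comm, mul_one, h1, h2, h3, h4, h5, h6, h7, h8, g, Nat.reduceAdd]
  nth_rw 1 [g0]
  module

theorem B_zz (hB : B * B = (b - 1) • B + b • (1 : M)) (hbr : alt 8 A B = alt 8 B A) (hc : b * c = -1) :
    B * zz A B c = (-1 : ℝ) • zz A B c := by
  have h := fun k => mul_alt (B := A) hB k
  have h8 : B * alt 8 A B = (b - 1) • alt 8 A B + b • alt 7 A B := by rw [hbr]; exact h 7
  have h7 : B * alt 7 B A = (b - 1) • alt 7 B A + b • alt 6 A B := h 6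
  have h6 : B * alt 6 B A = (b - 1) • alt 6 B A + b • alt 5 A B := h 5
  have h5 : B * alt 5 B A = (b - 1) • alt 5 B A + b • alt 4 A B := h 4
  have h4 : B * alt 4 B A = (b - 1) • alt 4 B A + b • alt 3 A B := h 3
  have h3 : B * alt 3 B A = (b - 1) • alt 3 B A + b • alt 2 A B := h 2
  have h2 : B * alt 2 B A = (b - 1) • alt 2 B A + b • alt 1 A B := h 1
  have h1 : B * alt 1 B A = (b - 1) • alt 1 B A + b • (1 : M) := h 0
  have g1 : B * alt 1 A B = alt 2 B A := rfl
  have g2 : B * alt 2 A B = alt 3 B A := rfl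
  have g3 : B * alt 3 A B = alt 4 B A := rfl
  have g4 : B * alt 4 A B = alt 5 B A := rfl
  have g5 : B * alt 5 A B = alt 6 B A := rfl
  have g6 : B * alt 6 A B = alt 7 B A := rfl
  have g7 : B * alt 7 A B = alt 8 A B := by rw [hbr]; rfl
  have g0 : B = alt 1 B A := (alt_one B A).symm
  have hb : b ≠ 0 := by
    rintro rfl
    rw [zero_mul] at hc
    norm_num at hc
  have hc' : c = - b⁻¹ := by field_simp; linarith
  rw [zz_eq]
  simp only [mul_add, mul_smul_comm, mul_one, h1, h2, h3, h4, h5, h6, h7, h8, g1, g2, g3, g4, g5, g6, g7]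
  nth_rw 1 [g0]
  subst hc'
  match_scalars <;> (field_simp; try ring)

/-- the constant -/
noncomputable def kap (a b : ℝ) : ℝ := (1 + a) * (1 + b⁻¹) * (1 + a * b⁻¹) * (1 + a ^ 2 * b⁻¹ ^ 2)

theorem alt_zz {z : M} (hA : A * z = a • z) (hB : B * z = (-1 : ℝ) • z) :
    ∀ k : ℕ, alt k A B * z = ((-1 : ℝ) ^ (k / 2) * a ^ ((k + 1) / 2)) • z ∧
      alt k B A * z = ((-1 : ℝ) ^ ((k + 1) / 2) * a ^ (k / 2)) • z := by
  intro k
  induction k with
  | zero => simp [alt_zero]
  | succ k ih =>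
    constructor
    · rw [alt_succ, mul_assoc, ih.2, mul_smul_comm, hA, smul_smul]
      congr 1
      have : (k + 1 + 1) / 2 = k / 2 + 1 := by omega
      rw [this, pow_succ]
      ring
    · rw [alt_succ, mul_assoc, ih.1, mul_smul_comm, hB, smul_smul]
      congr 1
      have : (k + 1 + 1) / 2 = k / 2 + 1 := by omega
      rw [this, pow_succ]
      ring

theorem zz_sq (hA : A * A = (a - 1) • A + a • (1 : M)) (hB : B * B = (b - 1) • B + b • (1 : M))
    (hbr : alt 8 A B = alt 8 B A) (hc : b * c = -1) : zz A B c * zz A B c = kap a b • zz A B c := by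
  have h1 := A_zz (B := B) (c := c) hA
  have h2 := B_zz hB hbr hc
  set z := zz A B c with hz
  have h := alt_zz h1 h2
  have hb : b ≠ 0 := by
    rintro rfl
    rw [zero_mul] at hc
    norm_num at hc
  have hc' : c = - b⁻¹ := by field_simp; linarith
  have e : z * z = (1 + alt 1 A B + c • alt 1 B A + c • alt 2 A B + c • alt 2 B A +
    c • alt 3 A B + c ^ 2 • alt 3 B A + c ^ 2 • alt 4 A B + c ^ 2 • alt 4 B A + c ^ 2 • alt 5 A B + c ^ 3 • alt 5 B A +
    c ^ 3 • alt 6 A B + c ^ 3 • alt 6 B A + c ^ 3 • alt 7 A B + c ^ 4 • alt 7 B A + c ^ 4 • alt 8 A B) * z := by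
    rw [← zz_eq]
  rw [e]
  simp only [add_mul, smul_mul_assoc, one_mul, (h 1).1, (h 1).2, (h 2).1, (h 2).2, (h 3).1, (h 3).2, (h 4).1,
    (h 4).2, (h 5).1, (h 5).2, (h 6).1, (h 6).2, (h 7).1, (h 7).2, (h 8).1, Nat.reduceAdd, Nat.reduceDiv]
  rw [kap, hc']
  match_scalars
  ring

theorem kap_pos {a b : ℝ} (ha : 0 < a) (hb : 0 < b) : 0 < kap a b := by
  unfold kap
  positivity

end alg

end Cfsg.Agent.H315.HT
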