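import Cfsg.Agent.H315.HT.Lin

/-!
# S4933: the mixed linear constituent of `1_B^G`, (B,N)-pair of type `I₂(8)` (helper315)

`P.S = {s, t}`, `a = q_s`, `b = q_t`, `|G : B| = (1+a)(1+b)(1+ab)(1+a²b²)`.  `exists_psi` : the matrix `e = κ⁻¹ z` is a
primitive idempotent; `ψ(g) = ∑ x, e x (g x)` is irreducible, `κ ψ(1) = |G : B|`, and `ψ` is in the principal `p`-block for
every prime `p` dividing `b + 1`.
-/

set_option autoImplicit false
set_option linter.unusedSectionVars false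

namespace Cfsg.Agent.H315.HT

open Cfsg Cfsg.Agent.LieRecognition.FeitHigmanGroup Cfsg.Agent.LieExceptional.BNPairCore
open Cfsg.Agent.H740.Eight.Hecke Cfsg.Agent.H740.Eight.HeckeDeg

universe u

variable {G : Type u} [Group G] {P : BNPair G} [Finite G] [Fintype (G ⧸ P.B)] [DecidableEq (G ⧸ P.B)] {s t : G}

/-- the matrix `z` -/
noncomputable def zT (P : BNPair G) [Fintype (G ⧸ P.B)] [DecidableEq (G ⧸ P.B)] (s t : G) (c : ℝ) :
    Matrix (G ⧸ P.B) (G ⧸ P.B) ℝ := zz (T P s) (T P t) c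

omit [Finite G] in
theorem inv_alt {X : Type*} [MulAction G X] [Fintype X] [DecidableEq X] {A B : Matrix X X ℝ} (hA : Inv G A)
    (hB : Inv G B) (k : ℕ) : Inv G (alt k A B) ∧ Inv G (alt k B A) := by
  induction k with
  | zero => exact ⟨Inv.one, Inv.one⟩
  | succ k ih => exact ⟨hA.mul ih.2, hB.mul ih.1⟩

omit [Finite G] in
theorem inv_words {X : Type*} [MulAction G X] [Fintype X] [DecidableEq X] {A B : Matrix X X ℝ} (hA : Inv G A)
    (hB : Inv G B) (i : Fin 16) : Inv G (words A B i) := by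
  have h := inv_alt hA hB
  fin_cases i
  · exact Inv.one
  · exact (h 1).1
  · exact (h 1).2
  · exact (h 2).1
  · exact (h 2).2
  · exact (h 3).1
  · exact (h 3).2
  · exact (h 4).1
  · exact (h 4).2
  · exact (h 5).1
  · exact (h 5).2
  · exact (h 6).1
  · exact (h 6).2
  · exact (h 7).1
  · exact (h 7).2
  · exact (h 8).1

omit [Finite G] in
theorem inv_zz {X : Type*} [MulAction G X] [Fintype X] [DecidableEq X] {A B : Matrix X X ℝ} (hA : Inv G A)
    (hB : Inv G B) (c : ℝ) : Inv G (zz A B c) := by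
  intro g x y
  unfold zz
  rw [Matrix.sum_apply, Matrix.sum_apply]
  refine Fintype.sum_congr _ _ fun i => ?_
  rw [Matrix.smul_apply, Matrix.smul_apply, inv_words hA hB i]

/-- the words are Hecke matrices -/
theorem words_T (hS : P.S = {s, t}) (hst : s ≠ t) (h16 : ((P.B ⊓ P.N).subgroupOf P.N).index = 16) (i : Fin 16) :
    ∃ w : G, words (T P s) (T P t) i = T P w := by
  have hs : s ∈ P.S := by rw [hS]; simp
  have ht : t ∈ P.S := by rw [hS]; simp
  obtain ⟨n', hn2, hred, hbraid, hne⟩ := exists_max_red hS hst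
  have h0 := card_weyl hS (by omega) hred hbraid hne
  rw [h16] at h0
  obtain rfl : n' = 8 := by omega
  have h1 : ∀ k, k ≤ 8 → (∃ w : G, alt k (T P s) (T P t) = T P w) ∧ ∃ w : G, alt k (T P t) (T P s) = T P w := by
    intro k hk
    have h2 := hred.of_le hs ht hk
    exact ⟨⟨_, alt_T hs ht h2.1⟩, ⟨_, alt_T ht hs h2.2⟩⟩
  fin_cases i
  · exact ⟨1, T_one.symm⟩
  · exact (h1 1 (by norm_num)).1
  · exact (h1 1 (by norm_num)).2
  · exact (h1 2 (by norm_num)).1
  · exact (h1 2 (by norm_num)).2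
  · exact (h1 3 (by norm_num)).1
  · exact (h1 3 (by norm_num)).2
  · exact (h1 4 (by norm_num)).1
  · exact (h1 4 (by norm_num)).2
  · exact (h1 5 (by norm_num)).1
  · exact (h1 5 (by norm_num)).2
  · exact (h1 6 (by norm_num)).1
  · exact (h1 6 (by norm_num)).2
  · exact (h1 7 (by norm_num)).1
  · exact (h1 7 (by norm_num)).2
  · exact (h1 8 (by norm_num)).1

omit [Finite G] [Fintype (G ⧸ P.B)] [DecidableEq (G ⧸ P.B)] in
theorem desc (hs : s ∈ P.S) (ht : t ∈ P.S) : ∀ k : ℕ, (len P (alt (9 + k) s t) = 9 + k ∨ len P (alt (9 + k) t s) = 9 + k) →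
    (len P (alt 9 s t) = 9 ∨ len P (alt 9 t s) = 9) := by
  intro k
  induction k with
  | zero => exact id
  | succ k ih =>
    rintro (h | h)
    · exact ih (Or.inr (len_alt_pred hs ht h))
    · exact ih (Or.inl (len_alt_pred ht hs h))

/-- every Hecke matrix is a word -/
theorem exists_word (hS : P.S = {s, t}) (hst : s ≠ t) (h16 : ((P.B ⊓ P.N).subgroupOf P.N).index = 16) (w : G) :
    ∃ i, T P w = words (T P s) (T P t) i := by
  have hs : s ∈ P.S := by rw [hS]; simp
  have ht : t ∈ P.S := by rw [hS]; simp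
  obtain ⟨n', hn2, hred, hbraid, hne⟩ := exists_max_red hS hst
  have h0 := card_weyl hS (by omega) hred hbraid hne
  rw [h16] at h0
  obtain rfl : n' = 8 := by omega
  obtain ⟨n, hn, hwn⟩ := bruhat (P := P) w
  have h1 : T P w = T P n := by
    have h2 : R P w = R P n := by
      funext x y
      unfold R
      rw [C_eq_of_mem hwn]
    unfold T
    rw [h2]
  have hb8 : alt 8 (T P s) (T P t) = alt 8 (T P t) (T P s) := (hecke_data hS hst (n := 8) (by rw [h16])).1
  have hbr' : (alt 8 t s)⁻¹ * alt 8 s t ∈ P.B := by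
    have e : (alt 8 t s)⁻¹ * alt 8 s t = ((alt 8 s t)⁻¹ * alt 8 t s)⁻¹ := by group
    rw [e]
    exact inv_mem hbraid
  have hle : len P n ≤ 8 := by
    by_contra hcon
    obtain ⟨k, hk⟩ : ∃ k, len P n = 9 + k := ⟨len P n - 9, by omega⟩
    have h2 : len P (alt (9 + k) s t) = 9 + k ∨ len P (alt (9 + k) t s) = 9 + k := by
      rcases exists_alt hS hn with h3 | h3
      · left
        rw [hk] at h3
        rw [← len_congr h3] at hk
        exact hk
      · right
        rw [hk] at h3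
        rw [← len_congr h3] at hk
        exact hk
    rcases desc hs ht k h2 with h3 | h3
    · exact not_red_of_braid hs ht (by norm_num) hbraid h3
    · exact not_red_of_braid ht hs (by norm_num) hbr' h3
  have key : ∀ k, k ≤ 8 → (∃ i, alt k (T P s) (T P t) = words (T P s) (T P t) i) ∧
      ∃ i, alt k (T P t) (T P s) = words (T P s) (T P t) i := by
    intro k hk
    interval_cases k
    · exact ⟨⟨0, rfl⟩, ⟨0, rfl⟩⟩
    · exact ⟨⟨1, rfl⟩, ⟨2, rfl⟩⟩
    · exact ⟨⟨3, rfl⟩, ⟨4, rfl⟩⟩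
    · exact ⟨⟨5, rfl⟩, ⟨6, rfl⟩⟩
    · exact ⟨⟨7, rfl⟩, ⟨8, rfl⟩⟩
    · exact ⟨⟨9, rfl⟩, ⟨10, rfl⟩⟩
    · exact ⟨⟨11, rfl⟩, ⟨12, rfl⟩⟩
    · exact ⟨⟨13, rfl⟩, ⟨14, rfl⟩⟩
    · exact ⟨⟨15, rfl⟩, ⟨15, hb8.symm⟩⟩
  rw [h1]
  rcases exists_alt hS hn with h3 | h3
  · rw [← T_congr h3, ← alt_T hs ht (by rw [len_congr h3])]
    exact (key _ hle).1
  · rw [← T_congr h3, ← alt_T ht hs (by rw [len_congr h3])]
    exact (key _ hle).2

/-- the row sums -/
theorem row_T (s : G) (x : G ⧸ P.B) : (T P s).mulVec (fun _ => 1) x = q P s := by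
  classical
  have h := card_filter_R (P := P) s x
  unfold Matrix.mulVec dotProduct
  simp only [mul_one, T_apply]
  rw [Finset.sum_boole, h]

theorem row_zz {A B : Matrix (G ⧸ P.B) (G ⧸ P.B) ℝ} {a b : ℝ} (hA : A.mulVec (fun _ => (1 : ℝ)) = a • fun _ => (1 : ℝ))
    (hB : B.mulVec (fun _ => (1 : ℝ)) = b • fun _ => (1 : ℝ)) :
    (zz A B 1).mulVec (fun _ => (1 : ℝ)) = ((1 + a) * (1 + b) * (1 + a * b) * (1 + a ^ 2 * b ^ 2)) • fun _ => (1 : ℝ) := by
  have h : ∀ k : ℕ, (alt k A B).mulVec (fun _ => (1 : ℝ)) = (a ^ ((k + 1) / 2) * b ^ (k / 2)) • (fun _ => (1 : ℝ)) ∧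
      (alt k B A).mulVec (fun _ => (1 : ℝ)) = (a ^ (k / 2) * b ^ ((k + 1) / 2)) • (fun _ => (1 : ℝ)) := by
    intro k
    induction k with
    | zero => simp [alt_zero, Matrix.one_mulVec]
    | succ k ih =>
      have e : (k + 1 + 1) / 2 = k / 2 + 1 := by omega
      constructor
      · rw [alt_succ, ← Matrix.mulVec_mulVec, ih.2, Matrix.mulVec_smul, hA, smul_smul, e, pow_succ]
        congr 1; ring
      · rw [alt_succ, ← Matrix.mulVec_mulVec, ih.1, Matrix.mulVec_smul, hB, smul_smul, e, pow_succ]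
        congr 1; ring
  rw [zz_eq]
  simp only [Matrix.add_mulVec, Matrix.smul_mulVec, Matrix.one_mulVec, (h 1).1, (h 1).2, (h 2).1, (h 2).2, (h 3).1,
    (h 3).2, (h 4).1, (h 4).2, (h 5).1, (h 5).2, (h 6).1, (h 6).2, (h 7).1, (h 7).2, (h 8).1, Nat.reduceAdd,
    Nat.reduceDiv]
  match_scalars
  ring

/-- exactly one word is nonzero at `(x, y)` -/
theorem one_word (hS : P.S = {s, t}) (hst : s ≠ t) (h16 : ((P.B ⊓ P.N).subgroupOf P.N).index = 16)
    (hN : Nat.card (G ⧸ P.B) = (1 + q P s) * (1 + q P t) * (1 + q P s * q P t) * (1 + q P s ^ 2 * q P t ^ 2))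
    (x y : G ⧸ P.B) : ∃ i₀, ∀ i, words (T P s) (T P t) i x y = if i = i₀ then 1 else 0 := by
  classical
  set W := words (T P s) (T P t) with hW
  have h01 : ∀ i y, W i x y = 0 ∨ W i x y = 1 := by
    intro i y
    obtain ⟨w, hw⟩ := words_T hS hst h16 i
    rw [hW, hw, T_apply]
    split_ifs
    · exact Or.inr rfl
    · exact Or.inl rfl
  have hge : ∀ y, 1 ≤ ∑ i, W i x y := by
    intro y
    obtain ⟨w, hw⟩ : ∃ w : G, T P w x y = 1 := by
      induction x using QuotientGroup.induction_on with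
      | H g =>
      induction y using QuotientGroup.induction_on with
      | H h =>
        refine ⟨g⁻¹ * h, ?_⟩
        rw [T_apply, if_pos]
        rw [R_mk_iff]
        exact self_mem_C _
    obtain ⟨i, hi⟩ := exists_word hS hst h16 w
    rw [hi] at hw
    rw [← hw]
    exact Finset.single_le_sum (f := fun i => W i x y) (fun j _ => by
      rcases h01 j y with h | h
      · exact h.ge
      · rw [h]; exact zero_le_one) (Finset.mem_univ i)
  have hrow := congrFun (row_zz (A := T P s) (B := T P t) (a := q P s) (b := q P t) (by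
    funext x; rw [row_T, Pi.smul_apply, smul_eq_mul, mul_one]) (by
    funext x; rw [row_T, Pi.smul_apply, smul_eq_mul, mul_one])) x
  have hsum : ∑ y, ∑ i, W i x y = Nat.card (G ⧸ P.B) := by
    rw [hN]
    rw [Pi.smul_apply, smul_eq_mul, mul_one] at hrow
    push_cast
    rw [← hrow]
    unfold Matrix.mulVec dotProduct zz
    refine Fintype.sum_congr _ _ fun y => ?_
    show ∑ i, W i x y = (∑ i, (1 : ℝ) ^ ex i • words (T P s) (T P t) i) x y * 1
    rw [Matrix.sum_apply, mul_one]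
    refine Fintype.sum_congr _ _ fun i => ?_
    rw [one_pow, one_smul]
  have hone : ∀ y, ∑ i, W i x y = 1 := by
    have h1 : ∑ y, (∑ i, W i x y - 1) = 0 := by
      rw [Finset.sum_sub_distrib, hsum, Finset.sum_const, Finset.card_univ, nsmul_eq_mul, mul_one,
        Nat.card_eq_fintype_card, sub_self]
    have h2 := (Finset.sum_eq_zero_iff_of_nonneg (fun y _ => by linarith [hge y])).1 h1
    intro y
    linarith [h2 y (Finset.mem_univ _)]
  obtain ⟨i₀, hi₀⟩ : ∃ i, W i x y = 1 := by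
    by_contra hcon
    push Not at hcon
    have h1 : ∑ i, W i x y = 0 := Finset.sum_eq_zero fun i _ => (h01 i y).resolve_right (hcon i)
    rw [hone] at h1
    norm_num at h1
  refine ⟨i₀, fun i => ?_⟩
  by_cases h : i = i₀
  · rw [if_pos h, h, hi₀]
  · rw [if_neg h]
    rcases h01 i y with h1 | h1
    · exact h1
    · exfalso
      have h2 : ∑ j ∈ ({i, i₀} : Finset (Fin 16)), W j x y ≤ ∑ j, W j x y :=
        Finset.sum_le_sum_of_subset_of_nonneg (Finset.subset_univ _) fun j _ _ => by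
          rcases h01 j y with h | h
          · exact h.ge
          · rw [h]; exact zero_le_one
      rw [Finset.sum_pair h, h1, hi₀, hone] at h2
      norm_num at h2

/-- the entries of `z` -/
theorem zz_entry (hS : P.S = {s, t}) (hst : s ≠ t) (h16 : ((P.B ⊓ P.N).subgroupOf P.N).index = 16)
    (hN : Nat.card (G ⧸ P.B) = (1 + q P s) * (1 + q P t) * (1 + q P s * q P t) * (1 + q P s ^ 2 * q P t ^ 2))
    (x y : G ⧸ P.B) : ∃ j : ℕ, j ≤ 4 ∧ ∀ c : ℝ, zz (T P s) (T P t) c x y = c ^ j := by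
  obtain ⟨i₀, h⟩ := one_word hS hst h16 hN x y
  refine ⟨ex i₀, by fin_cases i₀ <;> decide, fun c => ?_⟩
  unfold zz
  rw [Matrix.sum_apply, Finset.sum_eq_single i₀]
  · rw [Matrix.smul_apply, h, if_pos rfl, smul_eq_mul, mul_one]
  · intro i _ hi
    rw [Matrix.smul_apply, h, if_neg hi, smul_zero]
  · intro h
    exact absurd (Finset.mem_univ _) h

/-- the trace of `z` -/
theorem tr_zz (hS : P.S = {s, t}) (hst : s ≠ t) (h16 : ((P.B ⊓ P.N).subgroupOf P.N).index = 16) (c : ℝ) :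
    (zz (T P s) (T P t) c).trace = Nat.card (G ⧸ P.B) := by
  obtain ⟨-, htr⟩ := hecke_data hS hst (n := 8) (by rw [h16])
  have h := fun k h1 h2 => htr k h1 h2
  rw [zz_eq]
  simp only [Matrix.trace_add, Matrix.trace_smul, (h 1 (by norm_num) (by norm_num)).1, (h 1 (by norm_num) (by norm_num)).2,
    (h 2 (by norm_num) (by norm_num)).1, (h 2 (by norm_num) (by norm_num)).2,
    (h 3 (by norm_num) (by norm_num)).1, (h 3 (by norm_num) (by norm_num)).2,
    (h 4 (by norm_num) (by norm_num)).1, (h 4 (by norm_num) (by norm_num)).2,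
    (h 5 (by norm_num) (by norm_num)).1, (h 5 (by norm_num) (by norm_num)).2,
    (h 6 (by norm_num) (by norm_num)).1, (h 6 (by norm_num) (by norm_num)).2,
    (h 7 (by norm_num) (by norm_num)).1, (h 7 (by norm_num) (by norm_num)).2,
    (h 8 (by norm_num) (by norm_num)).1, smul_zero, add_zero, Matrix.trace_one]
  rw [Nat.card_eq_fintype_card]

/-- the idempotent -/
noncomputable def eC (P : BNPair G) [Fintype (G ⧸ P.B)] [DecidableEq (G ⧸ P.B)] (s t : G) :
    Matrix (G ⧸ P.B) (G ⧸ P.B) ℂ :=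
  ((kap (q P s) (q P t))⁻¹ • zz (T P s) (T P t) (-(q P t : ℝ)⁻¹)).map Complex.ofReal

theorem map_mul' {X : Type*} [Fintype X] (A B : Matrix X X ℝ) : (A * B).map Complex.ofReal =
    A.map Complex.ofReal * B.map Complex.ofReal := Matrix.map_mul (f := Complex.ofRealHom)

section idem

variable (hS : P.S = {s, t}) (hst : s ≠ t) (h16 : ((P.B ⊓ P.N).subgroupOf P.N).index = 16)

include hS hst h16

theorem kap_q : 0 < kap (q P s) (q P t) := by
  have hs : s ∈ P.S := by rw [hS]; simp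
  have ht : t ∈ P.S := by rw [hS]; simp
  have h1 := two_le_q (P := P) hs
  have h2 := two_le_q (P := P) ht
  have h1' : (0 : ℝ) < q P s := by exact_mod_cast (by omega : 0 < q P s)
  have h2' : (0 : ℝ) < q P t := by exact_mod_cast (by omega : 0 < q P t)
  exact kap_pos h1' h2'

theorem z_props : T P s * zz (T P s) (T P t) (-(q P t : ℝ)⁻¹) = (q P s : ℝ) • zz (T P s) (T P t) (-(q P t : ℝ)⁻¹) ∧
    T P t * zz (T P s) (T P t) (-(q P t : ℝ)⁻¹) = (-1 : ℝ) • zz (T P s) (T P t) (-(q P t : ℝ)⁻¹) ∧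
    zz (T P s) (T P t) (-(q P t : ℝ)⁻¹) * zz (T P s) (T P t) (-(q P t : ℝ)⁻¹) =
      kap (q P s) (q P t) • zz (T P s) (T P t) (-(q P t : ℝ)⁻¹) := by
  have hs : s ∈ P.S := by rw [hS]; simp
  have ht : t ∈ P.S := by rw [hS]; simp
  have hbr : alt 8 (T P s) (T P t) = alt 8 (T P t) (T P s) := (hecke_data hS hst (n := 8) (by rw [h16])).1
  have h2 := two_le_q (P := P) ht
  have h2' : (q P t : ℝ) ≠ 0 := by exact_mod_cast (by omega : q P t ≠ 0)
  have hc : (q P t : ℝ) * -(q P t : ℝ)⁻¹ = -1 := by field_simp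
  exact ⟨A_zz (T_sq hs), B_zz (T_sq ht) hbr hc, zz_sq (T_sq hs) (T_sq ht) hbr hc⟩

theorem eC_sq : eC P s t * eC P s t = eC P s t := by
  have hk := (kap_q hS hst h16).ne'
  obtain ⟨-, -, h3⟩ := z_props hS hst h16
  unfold eC
  rw [← map_mul', smul_mul_smul_comm, h3, smul_smul]
  congr 2
  field_simp

theorem eC_trace : (eC P s t).trace = (((kap (q P s) (q P t))⁻¹ * Nat.card (G ⧸ P.B) : ℝ) : ℂ) := by
  have h := tr_zz hS hst h16 (-(q P t : ℝ)⁻¹)
  rw [← h, ← smul_eq_mul, ← Matrix.trace_smul]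
  unfold eC
  rw [Matrix.trace, Matrix.trace, Complex.ofReal_sum]
  rfl

theorem eC_ne : eC P s t ≠ 0 := by
  intro h
  have h1 := eC_trace hS hst h16
  rw [h, Matrix.trace_zero] at h1
  have h2 : (kap (q P s) (q P t))⁻¹ * (Nat.card (G ⧸ P.B) : ℝ) = 0 := by exact_mod_cast h1.symm
  have h3 := kap_q hS hst h16
  have h4 : (0 : ℝ) < Nat.card (G ⧸ P.B) := by exact_mod_cast Nat.card_pos
  have h5 : 0 < (kap (q P s) (q P t))⁻¹ * (Nat.card (G ⧸ P.B) : ℝ) := by positivity
  linarith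

theorem eC_prim {M : Matrix (G ⧸ P.B) (G ⧸ P.B) ℂ} (hM : Inv G M) : ∃ c : ℂ, eC P s t * M * eC P s t = c • eC P s t := by
  obtain ⟨h1, h2, h3⟩ := z_props hS hst h16
  set z := zz (T P s) (T P t) (-(q P t : ℝ)⁻¹) with hz
  set k := kap (q P s) (q P t) with hk
  have hkp := kap_q hS hst h16
  set e : Matrix (G ⧸ P.B) (G ⧸ P.B) ℝ := k⁻¹ • z with he
  have hee : e * e = e := by
    rw [he, smul_mul_smul_comm, h3, smul_smul]
    congr 1
    field_simp
  have hcor : ∀ w : G, ∃ c : ℝ, e * T P w * e = c • e := by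
    intro w
    have h4 : T P w * e ∈ Submodule.span ℝ {e} := by
      refine T_mul_mem hS _ ?_ ?_ w (Submodule.mem_span_singleton_self e)
      · intro x hx
        obtain ⟨c, rfl⟩ := Submodule.mem_span_singleton.1 hx
        rw [mul_smul_comm, he, mul_smul_comm, h1]
        refine Submodule.smul_mem _ _ ?_
        rw [smul_comm]
        exact Submodule.smul_mem _ _ (Submodule.mem_span_singleton_self _)
      · intro x hx
        obtain ⟨c, rfl⟩ := Submodule.mem_span_singleton.1 hx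
        rw [mul_smul_comm, he, mul_smul_comm, h2]
        refine Submodule.smul_mem _ _ ?_
        rw [smul_comm]
        exact Submodule.smul_mem _ _ (Submodule.mem_span_singleton_self _)
    obtain ⟨c, hc⟩ := Submodule.mem_span_singleton.1 h4
    exact ⟨c, by rw [mul_assoc, ← hc, mul_smul_comm, hee]⟩
  have heC : eC P s t = e.map Complex.ofReal := rfl
  rw [heC]
  refine Submodule.span_induction (p := fun M _ => ∃ c : ℂ, e.map Complex.ofReal * M * e.map Complex.ofReal =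
    c • e.map Complex.ofReal) ?_ ?_ ?_ ?_ (mem_span hM)
  · rintro _ ⟨w, rfl⟩
    obtain ⟨c, hc⟩ := hcor w
    refine ⟨c, ?_⟩
    show e.map Complex.ofReal * (T P w).map Complex.ofReal * e.map Complex.ofReal = _
    rw [← map_mul', ← map_mul', hc]
    ext x y
    simp
  · exact ⟨0, by simp⟩
  · rintro A B _ _ ⟨a, ha⟩ ⟨b, hb⟩
    exact ⟨a + b, by rw [mul_add, add_mul, ha, hb, add_smul]⟩
  · rintro a A _ ⟨b, hb⟩
    exact ⟨a * b, by rw [mul_smul_comm, smul_mul_assoc, hb, smul_smul]⟩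

/-- **the mixed character of a group acting on the chambers** -/
theorem psiA {A : Type*} [Group A] [Finite A] [MulAction A (G ⧸ P.B)] (h1 : Inv A (T P s)) (h2 : Inv A (T P t))
    (hG : ∀ g : G, ∃ a : A, ∀ x : G ⧸ P.B, a • x = g • x) :
    IsIrrCharacter A (fun a => ∑ x, eC P s t x (a • x)) := by
  refine idem_char ?_ (eC_sq hS hst h16) (eC_ne hS hst h16) fun M hM => eC_prim hS hst h16 ?_
  · exact Inv.map _ (Inv.smul _ (inv_zz h1 h2 _))
  · intro g x y
    obtain ⟨a, ha⟩ := hG g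
    rw [← ha, ← ha, hM]

/-- the degree -/
theorem psi_one {A : Type*} [Group A] [MulAction A (G ⧸ P.B)] : ∑ x, eC P s t x ((1 : A) • x) =
    (((kap (q P s) (q P t))⁻¹ * Nat.card (G ⧸ P.B) : ℝ) : ℂ) := by
  rw [← eC_trace hS hst h16]
  refine Fintype.sum_congr _ _ fun x => ?_
  rw [one_smul]
  rfl

end idem

/-- **Membership in the principal block** for `p ∣ q_t + 1`. -/
theorem psi_mem [Fintype G] {p : ℕ} {M : Ideal AlgInt} (hM : IsPModular p M) (hS : P.S = {s, t}) (hst : s ≠ t)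
    (h16 : ((P.B ⊓ P.N).subgroupOf P.N).index = 16)
    (hN : Nat.card (G ⧸ P.B) = (1 + q P s) * (1 + q P t) * (1 + q P s * q P t) * (1 + q P s ^ 2 * q P t ^ 2))
    (hp : p.Prime) (hpt : p ∣ 1 + q P t) (ψ : IrrCharacter G)
    (hψ : ∀ g : G, (ψ : G → ℂ) g = ∑ x, eC P s t x (g • x)) : ψ ∈ principalBlock M G := by
  have hs : s ∈ P.S := by rw [hS]; simp
  have ht : t ∈ P.S := by rw [hS]; simp
  have hb2 := two_le_q (P := P) ht
  set a := q P s with ha
  set b := q P t with hb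
  have hb0 : (b : ℝ) ≠ 0 := by exact_mod_cast (by omega : b ≠ 0)
  have hb1 : (1 + b : ℝ) ≠ 0 := by positivity
  set c : ℝ := -(b : ℝ)⁻¹ with hc
  set k := kap a b with hk
  have hkp : 0 < k := kap_q hS hst h16
  -- the integral matrix
  let f : Matrix (G ⧸ P.B) (G ⧸ P.B) ℂ := fun x y => (((1 - (b : ℝ) ^ 4 * zz (T P s) (T P t) c x y) / (1 + b) : ℝ) : ℂ)
  have hInv := inv_zz (inv_T (P := P) s) (inv_T (P := P) t) c
  refine mem_of_test hM P.B (f := f) ?_ ?_ ψ ((1 + a) * (1 + a * b) * (1 + a ^ 2 * b ^ 2))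
    ((-((b : ℝ) ^ 4 * k / (1 + b)) : ℝ) : ℂ) ?_ ?_
  · intro g x y
    show (((1 - (b : ℝ) ^ 4 * zz (T P s) (T P t) c (g • x) (g • y)) / (1 + b) : ℝ) : ℂ) = _
    rw [hInv]
  · intro x y
    obtain ⟨j, hj, h⟩ := zz_entry hS hst h16 hN x y
    show ∃ n : ℤ, (((1 - (b : ℝ) ^ 4 * zz (T P s) (T P t) c x y) / (1 + b) : ℝ) : ℂ) = n
    rw [h]
    interval_cases j
    · refine ⟨(1 - b) * (1 + b ^ 2), ?_⟩
      have : (1 - (b : ℝ) ^ 4 * c ^ 0) / (1 + b) = (1 - b) * (1 + b ^ 2) := by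
        field_simp; ring
      rw [this]; push_cast; rfl
    · refine ⟨b ^ 2 - b + 1, ?_⟩
      have : (1 - (b : ℝ) ^ 4 * c ^ 1) / (1 + b) = b ^ 2 - b + 1 := by
        rw [hc]; field_simp; ring
      rw [this]; push_cast; rfl
    · refine ⟨1 - b, ?_⟩
      have : (1 - (b : ℝ) ^ 4 * c ^ 2) / (1 + b) = 1 - b := by
        rw [hc]; field_simp; ring
      rw [this]; push_cast; rfl
    · refine ⟨1, ?_⟩
      have : (1 - (b : ℝ) ^ 4 * c ^ 3) / (1 + b) = 1 := by
        rw [hc]; field_simp; ring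
      rw [this]; push_cast; rfl
    · refine ⟨0, ?_⟩
      have : (1 - (b : ℝ) ^ 4 * c ^ 4) / (1 + b) = 0 := by
        rw [hc]; field_simp; ring
      rw [this]; push_cast; rfl
  · intro g
    have e1 : ∀ x : G ⧸ P.B, f x (g • x) = ((1 / (1 + b) : ℝ) : ℂ) +
        ((-((b : ℝ) ^ 4 * k / (1 + b)) : ℝ) : ℂ) * eC P s t x (g • x) := by
      intro x
      have e2 : eC P s t x (g • x) = ((k⁻¹ * zz (T P s) (T P t) c x (g • x) : ℝ) : ℂ) := rfl
      rw [e2]
      show (((1 - (b : ℝ) ^ 4 * zz (T P s) (T P t) c x (g • x)) / (1 + b) : ℝ) : ℂ) = _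
      rw [← Complex.ofReal_mul, ← Complex.ofReal_add]
      congr 1
      field_simp
      ring
    rw [Fintype.sum_congr _ _ e1, Finset.sum_add_distrib, ← Finset.mul_sum, ← hψ, Finset.sum_const, Finset.card_univ,
      nsmul_eq_mul]
    congr 1
    rw [← Nat.card_eq_fintype_card, hN]
    push_cast
    have hb1' : (1 + b : ℂ) ≠ 0 := by exact_mod_cast hb1
    field_simp
  · intro hdvd
    have h1 : p ^ ((Nat.card (G ⧸ P.B)).factorization p + 1) ∣ Nat.card (G ⧸ P.B) := by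
      obtain ⟨u, hu⟩ := hpt
      obtain ⟨v, hv⟩ := hdvd
      refine ⟨u * v, ?_⟩
      have e : Nat.card (G ⧸ P.B) = (1 + b) * ((1 + a) * (1 + a * b) * (1 + a ^ 2 * b ^ 2)) := by
        rw [hN]; ring
      nth_rw 1 [e]
      rw [hu, hv, pow_succ]
      ring
    exact Nat.pow_succ_factorization_not_dvd Nat.card_pos.ne' hp h1

end Cfsg.Agent.H315.HT
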