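import Cfsg.Agent.H619.BD.PermBlock
import Cfsg.Agent.H740.Eight.Hecke

/-!
# S4933: the Hecke congruence test for the principal block (helper315)

* `mem_of_test` : `f` a `G`-invariant matrix on `G ⧸ H` with integer entries and `∑ x, f x (g x) = m + c ψ(g)`; if the full
  `p`-part of `|G : H|` does not divide `m`, then `ψ` is in the principal `p`-block;
* `idem_char` : a primitive idempotent `e` of the algebra of the invariant matrices gives the irreducible character
  `g ↦ ∑ x, e x (g x)`.
-/

set_option autoImplicit false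
set_option linter.unusedSectionVars false

namespace Cfsg.Agent.H315.HT

open Cfsg Cfsg.Agent.Characters.Core Cfsg.Agent.Blocks.LocalRing Cfsg.Agent.Blocks.Osima Cfsg.Agent.H619.BD
open Cfsg.Agent.H740.Eight.Hecke

universe u

variable {p : ℕ} {M : Ideal AlgInt} {G : Type u} [Group G]

/-- the trace of an invariant matrix against a class function -/
theorem sum_inv_mul [Fintype G] {H : Subgroup G} [Fintype (G ⧸ H)] {f : Matrix (G ⧸ H) (G ⧸ H) ℂ} (hf : Inv G f)
    {c : G → ℂ} (hc : IsClassFunction G c) :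
    ∑ g : G, (∑ x, f x (g • x)) * c g =
      (Nat.card (G ⧸ H) : ℂ) * ∑ g : G, f (QuotientGroup.mk 1) (g • (QuotientGroup.mk 1 : G ⧸ H)) * c g := by
  classical
  have h2 : ∀ x : G ⧸ H, ∑ g : G, f x (g • x) * c g =
      ∑ g : G, f (QuotientGroup.mk 1) (g • (QuotientGroup.mk 1 : G ⧸ H)) * c g := by
    intro x
    induction x using QuotientGroup.induction_on with
    | H k =>
    have e0 : (QuotientGroup.mk k : G ⧸ H) = k • (QuotientGroup.mk 1 : G ⧸ H) := by
      show _ = QuotientGroup.mk (k * 1)
      rw [mul_one]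
    rw [e0]
    refine (Fintype.sum_bijective (fun g : G => k * g * k⁻¹) (MulAut.conj k).bijective _ _ fun g => ?_).symm
    have h5 : c (k * g * k⁻¹) = c g := hc g k
    rw [h5]
    have h4 : (k * g * k⁻¹) • k • (QuotientGroup.mk 1 : G ⧸ H) = k • g • (QuotientGroup.mk 1 : G ⧸ H) := by
      rw [smul_smul, inv_mul_cancel_right, mul_smul]
    rw [h4, hf]
  calc ∑ g : G, (∑ x, f x (g • x)) * c g
      = ∑ g : G, ∑ x, f x (g • x) * c g := Finset.sum_congr rfl fun g _ => by rw [Finset.sum_mul]
    _ = ∑ x, ∑ g : G, f x (g • x) * c g := Finset.sum_comm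
    _ = _ := by
        rw [Finset.sum_congr rfl fun x _ => h2 x, Finset.sum_const, nsmul_eq_mul, Finset.card_univ,
          Nat.card_eq_fintype_card]

/-- **The test.** -/
theorem mem_of_test [Fintype G] (hM : IsPModular p M) (H : Subgroup G) [Fintype (G ⧸ H)]
    {f : Matrix (G ⧸ H) (G ⧸ H) ℂ} (hf : Inv G f) (hint : ∀ x y, ∃ n : ℤ, f x y = n) (ψ : IrrCharacter G) (m : ℕ) (c : ℂ)
    (hτ : ∀ g : G, ∑ x, f x (g • x) = (m : ℂ) + c * (ψ : G → ℂ) g)
    (hm : ¬ p ^ (Nat.card (G ⧸ H)).factorization p ∣ m) : ψ ∈ principalBlock M G := by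
  classical
  by_contra hψ
  have hB : IsPBlock M (principalBlock M G) := ⟨⟨1, isIrr_one⟩, rfl⟩
  have h1mem : (⟨1, isIrr_one⟩ : IrrCharacter G) ∈ principalBlock M G := by
    show SameBlock M _ _
    exact sameBlock_refl hM _
  apply hm
  have e1 := sum_mul_blockCoeff (G := G) (fun _ : Unit => (⟨1, isIrr_one⟩ : IrrCharacter G)) (principalBlock M G)
  have e2 := sum_mul_blockCoeff (G := G) (fun _ : Unit => ψ) (principalBlock M G)
  simp only [Finset.univ_unique, Finset.sum_singleton, h1mem, hψ, Finset.filter_true, Finset.filter_false,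
    Finset.sum_empty, Nat.cast_zero] at e1 e2
  refine ordProj_dvd_of_mem (n := Nat.card (G ⧸ H)) hM Nat.card_pos.ne' (r := ∑ g : G,
    f (QuotientGroup.mk 1) (g • (QuotientGroup.mk 1 : G ⧸ H)) * blockCoeff (principalBlock M G) g) ?_ ?_
  · refine memLocalRing_sum hM _ _ fun g _ => memLocalRing_mul hM ?_ (memLocalRing_blockCoeff hM hB g)
    obtain ⟨n, hn⟩ := hint (QuotientGroup.mk 1) (g • (QuotientGroup.mk 1 : G ⧸ H))
    rw [hn]
    exact memLocalRing_intCast hM n
  · rw [← sum_inv_mul hf (isClassFunction_blockCoeff _)]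
    have e3 : ∀ g : G, (∑ x, f x (g • x)) * blockCoeff (principalBlock M G) g =
        (m : ℂ) * ((1 : G → ℂ) g * blockCoeff (principalBlock M G) g) +
        c * ((ψ : G → ℂ) g * blockCoeff (principalBlock M G) g) := by
      intro g
      rw [hτ, Pi.one_apply]
      ring
    rw [Fintype.sum_congr _ _ e3, Finset.sum_add_distrib, ← Finset.mul_sum, ← Finset.mul_sum, e2, mul_zero, add_zero]
    have e4 : ∑ g : G, (1 : G → ℂ) g * blockCoeff (principalBlock M G) g = 1 := by
      rw [e1]
      have : charDegree (1 : G → ℂ) = 1 := by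
        have h := Blocks.Basic.irr_one_eq_charDegree (isIrr_one (G := G))
        rw [Pi.one_apply] at h
        exact_mod_cast h.symm
      exact_mod_cast this
    rw [e4, mul_one]

/-- **The character of a primitive idempotent**, with its values. -/
theorem idem_char {G : Type*} [Group G] [Finite G] {X : Type*} [MulAction G X] [Fintype X] [DecidableEq X]
    {e : Matrix X X ℂ} (hinv : Inv G e) (he : e * e = e) (hne : e ≠ 0)
    (hprim : ∀ M : Matrix X X ℂ, Inv G M → ∃ c : ℂ, e * M * e = c • e) :
    IsIrrCharacter G (fun g => ∑ x, e x (g • x)) := by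
  set E := Matrix.toLin' e with hE
  have hEE : ∀ v, E (E v) = E v := fun v => by
    have h1 : E ∘ₗ E = E := by rw [hE, ← Matrix.toLin'_mul, he]
    exact LinearMap.congr_fun h1 v
  set W := LinearMap.range E with hW
  have hWE : ∀ v ∈ W, E v = v := by
    rintro _ ⟨v, rfl⟩
    exact hEE v
  have hWinv : ∀ g, ∀ v ∈ W, perm G X g v ∈ W := by
    intro g v hv
    refine ⟨perm G X g v, ?_⟩
    rw [hE, perm_comm hinv, ← hE, hWE v hv]
  let ρ : Representation ℂ G W :=
    { toFun := fun g => (perm G X g).restrict (hWinv g)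
      map_one' := by
        refine LinearMap.ext fun v => Subtype.ext ?_
        show perm G X 1 (v : X → ℂ) = v
        rw [map_one]; rfl
      map_mul' := fun g h => by
        refine LinearMap.ext fun v => Subtype.ext ?_
        show perm G X (g * h) (v : X → ℂ) = perm G X g (perm G X h v)
        rw [map_mul]; rfl }
  have hρ : ∀ g (v : W), ((ρ g v : W) : X → ℂ) = perm G X g v := fun g v => rfl
  have hnt : Nontrivial W := by
    rw [Submodule.nontrivial_iff_ne_bot]
    intro h
    apply hne
    have h1 : E = 0 := LinearMap.range_eq_bot.1 h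
    rw [hE] at h1
    exact (LinearEquiv.map_eq_zero_iff _).1 h1
  have hirr : ρ.IsIrreducible := by
    apply irreducible_of_scalar
    intro f hf
    set L : (X → ℂ) →ₗ[ℂ] (X → ℂ) := W.subtype ∘ₗ f ∘ₗ E.rangeRestrict with hL
    have hLa : ∀ v, L v = (f (E.rangeRestrict v) : X → ℂ) := fun v => rfl
    have hLc : ∀ (g : G) v, L (perm G X g v) = perm G X g (L v) := by
      intro g v
      rw [hLa, hLa, ← hρ, ← hf]
      congr 2
      apply Subtype.ext
      show E (perm G X g v) = perm G X g (E v)
      rw [hE, perm_comm hinv]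
    obtain ⟨c, hc⟩ := hprim _ (inv_of_comm hLc)
    have h1 : ∀ v, E (L (E v)) = c • E v := by
      intro v
      have h2 := congrArg Matrix.toLin' hc
      rw [Matrix.toLin'_mul, Matrix.toLin'_mul, Matrix.toLin'_toMatrix', map_smul] at h2
      exact LinearMap.congr_fun h2 v
    refine ⟨c, fun w => Subtype.ext ?_⟩
    have h3 := h1 (w : X → ℂ)
    have h4 : E.rangeRestrict (w : X → ℂ) = w := Subtype.ext (hWE _ w.2)
    rw [hWE _ w.2, hLa, h4, hWE _ (f w).2] at h3
    exact h3
  have hchar : ρ.character = fun g => ∑ x, e x (g • x) := by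
    funext g
    have h1 : ∀ v, (perm G X g ∘ₗ E) v ∈ W := fun v => hWinv g _ ⟨v, rfl⟩
    have h2 := LinearMap.trace_restrict_eq_of_forall_mem W (perm G X g ∘ₗ E) h1
    have h3 : (perm G X g ∘ₗ E).restrict (fun x _ => h1 x) = ρ g := by
      refine LinearMap.ext fun v => Subtype.ext ?_
      show perm G X g (E (v : X → ℂ)) = perm G X g v
      rw [hWE _ v.2]
    rw [h3] at h2
    show LinearMap.trace ℂ W (ρ g) = _
    rw [h2, LinearMap.trace_eq_matrix_trace ℂ (Pi.basisFun ℂ X), Matrix.trace]
    refine Fintype.sum_congr _ _ fun x => ?_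
    rw [Matrix.diag_apply, LinearMap.toMatrix_apply, Pi.basisFun_repr, Pi.basisFun_apply]
    show perm G X g (Matrix.toLin' e (Pi.single x 1)) x = _
    rw [perm_apply, Matrix.toLin'_apply, Matrix.mulVec_single_one, Matrix.col_apply]
    have h4 := hinv g (g⁻¹ • x) x
    rw [smul_inv_smul] at h4
    exact h4.symm
  rw [← hchar]
  exact Characters.Core.isIrrCharacter_of_rep ρ hirr

end Cfsg.Agent.H315.HT
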